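import Groth.Agent.CurvFieldPt.Geom
import Groth.Agent.DimField.Scheme
import Groth.Agent.S9840
import Groth.Agent.S2155
import Mathlib.AlgebraicGeometry.Geometrically.Reduced
import Mathlib.AlgebraicGeometry.Geometrically.Connected
import Mathlib.AlgebraicGeometry.Morphisms.QuasiFinite
import Mathlib.FieldTheory.IsAlgClosed.AlgebraicClosure

/-!
# Reducedness, connectedness and the singular set under change of the base field
-/

set_option autoImplicit false
set_option linter.style.haveILetI false
universe u

noncomputable section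

namespace Groth.Agent.CurvFieldPt

open CategoryTheory CategoryTheory.Limits AlgebraicGeometry

variable {k : Type u} [Field k] {X : Scheme.{u}} (p : X ⟶ Spec (CommRingCat.of k))

/-- The map to `Spec K` from the spectrum of an algebraic closure. -/
abbrev closureMap (K : Type u) [Field K] : Spec (CommRingCat.of (AlgebraicClosure K)) ⟶ Spec (CommRingCat.of K) :=
  Spec.map (CommRingCat.ofHom (algebraMap K (AlgebraicClosure K)))

theorem surjective_of_spec {K : Type u} [Field K] {T : Scheme.{u}} [Nonempty T] (g : T ⟶ Spec (CommRingCat.of K)) :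
    Surjective g := by
  haveI : Subsingleton (Spec (CommRingCat.of K)) := inferInstanceAs (Subsingleton (PrimeSpectrum K))
  exact ⟨fun y => ⟨Classical.arbitrary T, Subsingleton.elim _ _⟩⟩

theorem flat_of_spec {K L : Type u} [Field K] [Field L] (g : Spec (CommRingCat.of L) ⟶ Spec (CommRingCat.of K)) :
    Flat g := by
  obtain ⟨φ, rfl⟩ := Spec.map_surjective g
  rw [HasRingHomProperty.Spec_iff (P := @Flat)]
  letI := φ.hom.toAlgebra
  change Module.Flat K L
  infer_instance

/-- Through an algebraically closed extension. -/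
theorem closure_square {K : Type u} [Field K] (s : Spec (CommRingCat.of K) ⟶ Spec (CommRingCat.of k)) {Y : Scheme.{u}}
    (i : Y ⟶ X) (q : Y ⟶ Spec (CommRingCat.of K)) (hY : IsPullback i q p s) :
    IsPullback (pullback.fst q (closureMap K) ≫ i) (pullback.snd q (closureMap K)) p (closureMap K ≫ s) ∧
      Flat (pullback.fst q (closureMap K)) ∧ Surjective (pullback.fst q (closureMap K)) := by
  haveI := flat_of_spec (closureMap K)
  haveI : Nonempty (Spec (CommRingCat.of (AlgebraicClosure K))) :=
    inferInstanceAs (Nonempty (PrimeSpectrum (AlgebraicClosure K)))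
  haveI := surjective_of_spec (closureMap K)
  exact ⟨(IsPullback.of_hasPullback q (closureMap K)).paste_horiz hY, inferInstance, inferInstance⟩

theorem geometricallyReduced_of_algClosed
    (H : ∀ (Ω : Type u) [Field Ω] [IsAlgClosed Ω] (s : Spec (CommRingCat.of Ω) ⟶ Spec (CommRingCat.of k))
      (X' : Scheme.{u}) (q : X' ⟶ Spec (CommRingCat.of Ω)) (i : X' ⟶ X), IsPullback i q p s → IsReduced X') :
    GeometricallyReduced p := by
  refine ⟨fun K _ s Y i q hY => ?_⟩
  obtain ⟨h1, h2, h3⟩ := closure_square p s i q hY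
  haveI := h2; haveI := h3
  haveI := H _ _ _ _ _ h1
  exact Groth.Agent.S9840.result (pullback.fst q (closureMap K))

theorem geometricallyConnected_of_algClosed
    (H : ∀ (Ω : Type u) [Field Ω] [IsAlgClosed Ω] (s : Spec (CommRingCat.of Ω) ⟶ Spec (CommRingCat.of k))
      (X' : Scheme.{u}) (q : X' ⟶ Spec (CommRingCat.of Ω)) (i : X' ⟶ X), IsPullback i q p s → ConnectedSpace X') :
    GeometricallyConnected p := by
  refine ⟨fun K _ s Y i q hY => ?_⟩
  obtain ⟨h1, -, h3⟩ := closure_square p s i q hY
  haveI := h3
  haveI := H _ _ _ _ _ h1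
  exact (pullback.fst q (closureMap K)).surjective.connectedSpace (pullback.fst q (closureMap K)).continuous

theorem dim_eq [LocallyOfFiniteType p] {Ω : Type u} [Field Ω] {s : Spec (CommRingCat.of Ω) ⟶ Spec (CommRingCat.of k)}
    {X' : Scheme.{u}} {q : X' ⟶ Spec (CommRingCat.of Ω)} {i : X' ⟶ X} (h : IsPullback i q p s) :
    topologicalKrullDim X = topologicalKrullDim X' := by
  haveI : Subsingleton (Spec (CommRingCat.of k)) := inferInstanceAs (Subsingleton (PrimeSpectrum k))
  haveI : Subsingleton (Spec (CommRingCat.of Ω)) := inferInstanceAs (Subsingleton (PrimeSpectrum Ω))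
  exact DimField.dim_eq_of_isPullback p q i s h

theorem singular_eq {Y S : Scheme.{u}} (f : Y ⟶ S) [LocallyOfFinitePresentation f] :
    {y : Y | ¬ ∃ U : Y.Opens, y ∈ U ∧ Smooth (U.ι ≫ f)} = (f.smoothLocus : Set Y)ᶜ := by
  ext y
  refine not_congr ⟨fun ⟨U, hy, hU⟩ => ?_, fun hy => ⟨f.smoothLocus, hy, ?_⟩⟩
  · have h : (⟨y, hy⟩ : U) ∈ (U.ι ≫ f).smoothLocus := by
      rw [(U.ι ≫ f).smoothLocus_eq_top]; exact trivial
    rw [← Scheme.Hom.preimage_smoothLocus_eq] at h
    exact h
  · rw [← Scheme.Hom.smoothLocus_eq_top_iff, ← Scheme.Hom.preimage_smoothLocus_eq]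
    ext z
    simp only [TopologicalSpace.Opens.coe_top, Set.mem_univ, iff_true]
    exact z.2

theorem finite_singular_iff [IsProper p] {Ω : Type u} [Field Ω] {s : Spec (CommRingCat.of Ω) ⟶ Spec (CommRingCat.of k)}
    {X' : Scheme.{u}} {q : X' ⟶ Spec (CommRingCat.of Ω)} {i : X' ⟶ X} (h : IsPullback i q p s) :
    {x : X' | ¬ ∃ U : X'.Opens, x ∈ U ∧ Smooth (U.ι ≫ q)}.Finite ↔
      {x : X | ¬ ∃ U : X.Opens, x ∈ U ∧ Smooth (U.ι ≫ p)}.Finite := by
  haveI : IsProper q := MorphismProperty.of_isPullback h inferInstance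
  haveI : LocallyOfFinitePresentation p := inferInstance
  haveI : LocallyOfFinitePresentation q := inferInstance
  rw [singular_eq p, singular_eq q, Groth.Agent.S2155.result p s q i h (Or.inr (flat_of_spec s))]
  haveI : Nonempty (Spec (CommRingCat.of Ω)) := inferInstanceAs (Nonempty (PrimeSpectrum Ω))
  haveI : Surjective i := MorphismProperty.of_isPullback h.flip (surjective_of_spec s)
  constructor
  · intro hf
    rw [← Set.image_preimage_eq (p.smoothLocus : Set X)ᶜ i.surjective]
    exact hf.image _
  · intro hf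
    let Z : TopologicalSpace.Closeds X := ⟨(p.smoothLocus : Set X)ᶜ, p.smoothLocus.2.isClosed_compl⟩
    let I := Scheme.IdealSheafData.vanishingIdeal Z
    have hr : Set.range I.subschemeι = (p.smoothLocus : Set X)ᶜ := by
      rw [Scheme.IdealSheafData.range_subschemeι, Scheme.IdealSheafData.coe_support_vanishingIdeal]
      rfl
    haveI : Finite I.subscheme := by
      rw [← Set.finite_univ_iff, ← Set.finite_image_iff (I.subschemeι.isEmbedding.injective.injOn), Set.image_univ, hr]
      exact hf
    haveI : LocallyQuasiFinite (I.subschemeι ≫ p) :=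
      LocallyQuasiFinite.of_finite_preimage_singleton _ fun _ => Set.toFinite _
    haveI : QuasiCompact (pullback.snd (I.subschemeι ≫ p) s) := inferInstance
    haveI : Finite (pullback (I.subschemeι ≫ p) s : Scheme.{u}) := by
      rw [← Set.finite_univ_iff]
      haveI : Subsingleton (Spec (CommRingCat.of Ω)) := inferInstanceAs (Subsingleton (PrimeSpectrum Ω))
      exact ((pullback.snd (I.subschemeι ≫ p) s).finite_preimage_singleton (Classical.arbitrary _)).subset
        fun z _ => Subsingleton.elim _ _
    let j := h.lift (pullback.fst (I.subschemeι ≫ p) s ≫ I.subschemeι) (pullback.snd (I.subschemeι ≫ p) s)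
      (by rw [Category.assoc, pullback.condition])
    have hsq : IsPullback (pullback.fst (I.subschemeι ≫ p) s) j I.subschemeι i := by
      refine IsPullback.of_bot ?_ (by rw [IsPullback.lift_fst]) h
      rw [IsPullback.lift_snd]
      exact IsPullback.of_hasPullback _ _
    refine (Set.finite_range j).subset fun x hx => ?_
    have : i x ∈ Set.range I.subschemeι := by rw [hr]; exact hx
    obtain ⟨z, hz⟩ := this
    obtain ⟨w, -, hw⟩ := Scheme.exists_preimage_of_isPullback hsq z x hz
    exact ⟨w, hw⟩

end Groth.Agent.CurvFieldPt
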