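import Groth.Prelude.Def_StCurv2

/-!
# Geometric fibres of the family of sheaves given by a scheme
-/

set_option autoImplicit false
universe u

noncomputable section

namespace Groth.Agent.CurvFieldPt

open CategoryTheory CategoryTheory.Limits AlgebraicGeometry

variable {S : Scheme.{u}}

theorem geomFib_iff (A : CurvSt.PtFamObj S 0)
    (Q : ∀ (Ω : Type u) [Field Ω] [IsAlgClosed Ω] (X' : Scheme.{u}), (X' ⟶ Spec (CommRingCat.of Ω)) → Prop) :
    CurvSt.GeomFib (fun Ω _ _ X' q _ => Q Ω X' q) ((CurvSt.toSpFam S 0).obj A) ↔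
      ∀ (Ω : Type u) [Field Ω] [IsAlgClosed Ω] (s : Spec (CommRingCat.of Ω) ⟶ A.base.left) (X' : Scheme.{u})
        (q : X' ⟶ Spec (CommRingCat.of Ω)) (i : X' ⟶ A.C), IsPullback i q A.f s → Q Ω X' q := by
  constructor
  · intro H Ω _ _ s X' q i hP
    let B := (CurvSt.toSpFam S 0).obj A
    let i' : B.ptOver (q ≫ s) ⟶ A.totOver := Over.homMk i (by
      change i ≫ A.f ≫ A.base.hom = (q ≫ s) ≫ A.base.hom
      rw [← Category.assoc, hP.w])
    exact H Ω s X' q ((AlgSp.yon S).map i')
      (IsPullback.map (AlgSp.yon S) (show IsPullback i' (B.fibHom s q) A.fOver (B.ptHom s) from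
        IsPullback.of_map (Over.forget S) (Over.OverMorphism.ext hP.w) hP))
  · intro H Ω _ _ s X' q i hP
    obtain ⟨i, rfl⟩ := (AlgSp.yon S).map_surjective i
    have hsq := IsPullback.of_map (AlgSp.yon S) ((AlgSp.yon S).map_injective
      ((Functor.map_comp _ _ _).trans (hP.w.trans (Functor.map_comp _ _ _).symm))) hP
    exact H Ω s X' q i.left (hsq.map (Over.forget S))

end Groth.Agent.CurvFieldPt
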