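import Groth.Agent.CurvFieldPt.Local

/-!
# Charts of a morphism of representable sheaves
-/

set_option autoImplicit false
universe u

noncomputable section

namespace Groth.Agent.CurvFieldPt

open CategoryTheory CategoryTheory.Limits AlgebraicGeometry AlgSp

variable {S : Scheme.{u}}

theorem locP_yon_iff_of_charts {P : MorphismProperty Scheme.{u}} {X T : Over S} (g : X ⟶ T) :
    LocP P ((yon S).map g) ↔ ∀ ⦃U V : Over S⦄ (a : U ⟶ X) (b : V ⟶ T) (h : U ⟶ V),
      Etale a.left → Etale b.left → a.left ≫ g.left = h.left ≫ b.left → P h.left := by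
  constructor
  · intro H U V a b h ha hb e
    refine H ((yon S).map a) ((yon S).map b) h ((repWith_yon_map_iff _ _).2 ha)
      ((repWith_yon_map_iff _ _).2 hb) ?_
    rw [← Functor.map_comp, ← Functor.map_comp]
    exact congrArg _ (Over.OverMorphism.ext e)
  · intro H U V a b h ha hb e
    obtain ⟨a, rfl⟩ := (yon S).map_surjective a
    obtain ⟨b, rfl⟩ := (yon S).map_surjective b
    rw [← Functor.map_comp, ← Functor.map_comp] at e
    exact H a b h ((repWith_yon_map_iff _ _).1 ha) ((repWith_yon_map_iff _ _).1 hb)
      (congrArg Over.Hom.left ((yon S).map_injective e))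

end Groth.Agent.CurvFieldPt
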