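import Groth.Prelude.Def_AlgSp3
import Groth.Agent.CMFlat.Scheme
import Groth.Agent.GorMor.Etale
import Groth.Agent.MonoSmooth.Basic
import Groth.Agent.S0341

/-!
# Etale local properties of the morphism of sheaves given by a scheme over a field
-/

set_option autoImplicit false
set_option linter.style.haveILetI false
set_option linter.unusedSectionVars false
universe u

noncomputable section

namespace Groth.Agent.CurvFieldPt

open CategoryTheory CategoryTheory.Limits AlgebraicGeometry IsLocalRing

theorem isField_stalk_of_etale {k : Type u} [Field k] {V : Scheme.{u}} (b : V ⟶ Spec (CommRingCat.of k)) [Etale b]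
    (v : V) : IsField (V.presheaf.stalk v) := by
  letI := (b.stalkMap v).hom.toAlgebra
  haveI : IsLocalHom (algebraMap ((Spec (CommRingCat.of k)).presheaf.stalk (b v)) (V.presheaf.stalk v)) :=
    inferInstanceAs (IsLocalHom (b.stalkMap v).hom)
  haveI : Algebra.FormallyUnramified ((Spec (CommRingCat.of k)).presheaf.stalk (b v)) (V.presheaf.stalk v) :=
    FormallyUnramified.stalkMap b v
  haveI : Algebra.EssFiniteType ((Spec (CommRingCat.of k)).presheaf.stalk (b v)) (V.presheaf.stalk v) :=
    LocallyOfFiniteType.stalkMap b v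
  have h := Algebra.FormallyUnramified.isField_quotient_map_maximalIdeal
    (R := (Spec (CommRingCat.of k)).presheaf.stalk (b v)) (S := V.presheaf.stalk v)
  have h0 : maximalIdeal ((Spec (CommRingCat.of k)).presheaf.stalk (b v)) = ⊥ :=
    (IsLocalRing.isField_iff_maximalIdeal_eq).1 (MonoSmooth.isField_stalk_Spec k (b v))
  exact MulEquiv.isField h ((Ideal.quotEquivOfEq (by rw [h0, Ideal.map_bot])).trans
    (RingEquiv.quotientBot _)).symm.toMulEquiv

theorem flat_stalkMap_to_etale {k : Type u} [Field k] {U V : Scheme.{u}} (h : U ⟶ V)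
    (b : V ⟶ Spec (CommRingCat.of k)) [Etale b] (u : U) : (h.stalkMap u).hom.Flat := by
  letI := (isField_stalk_of_etale b (h u)).toField
  letI := (h.stalkMap u).hom.toAlgebra
  change Module.Flat _ _
  infer_instance

variable {k : Type u} [Field k] {X : Scheme.{u}} (p : X ⟶ Spec (CommRingCat.of k)) [LocallyOfFiniteType p]

theorem stalk_field (x : X) : (p.stalkMap x).hom.Flat :=
  flat_stalkMap_to_etale p (𝟙 _) x

theorem cm_iff (x : X) :
    MoreMor.IsCMAt p x ↔ LocCoh.IsCohenMacaulayLocalRing (X.presheaf.stalk x) := by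
  haveI : IsLocallyNoetherian X := LocallyOfFiniteType.isLocallyNoetherian p
  refine ⟨fun h => ((CMFlat.isCohenMacaulay_stalk_iff p x h.1).2 ⟨?_, h.2⟩), fun h =>
    ⟨stalk_field p x, ((CMFlat.isCohenMacaulay_stalk_iff p x (stalk_field p x)).1 h).2⟩⟩
  exact @Groth.Agent.S0341.result _ _ (GorMor.gorenstein_of_isField (MonoSmooth.isField_stalk_Spec k (p x)))

theorem gor_iff (x : X) :
    ((p.stalkMap x).hom.Flat ∧ LocCoh.IsGorensteinLocalRing ((p.fiber (p x)).presheaf.stalk (p.asFiber x))) ↔
      LocCoh.IsGorensteinLocalRing (X.presheaf.stalk x) := by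
  haveI : IsLocallyNoetherian X := LocallyOfFiniteType.isLocallyNoetherian p
  exact ⟨fun h => (GorMor.isGorenstein_stalk_iff p x h.1).2
      ⟨GorMor.gorenstein_of_isField (MonoSmooth.isField_stalk_Spec k (p x)), h.2⟩,
    fun h => ⟨stalk_field p x, ((GorMor.isGorenstein_stalk_iff p x (stalk_field p x)).1 h).2⟩⟩

/-- A chart: `U` étale over `X`, `V` étale over the field, `h` compatible. -/
theorem chart {U V : Scheme.{u}} {a : U ⟶ X} [Etale a] {b : V ⟶ Spec (CommRingCat.of k)} [Etale b] {h : U ⟶ V}
    (_e : a ≫ p = h ≫ b) (u : U) :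
    (LocCoh.IsCohenMacaulayLocalRing (X.presheaf.stalk (a u)) → MoreMor.IsCMAt h u) ∧
    (LocCoh.IsGorensteinLocalRing (X.presheaf.stalk (a u)) → (h.stalkMap u).hom.Flat ∧
      LocCoh.IsGorensteinLocalRing ((h.fiber (h u)).presheaf.stalk (h.asFiber u))) := by
  haveI : IsLocallyNoetherian X := LocallyOfFiniteType.isLocallyNoetherian p
  haveI : IsLocallyNoetherian U := LocallyOfFiniteType.isLocallyNoetherian a
  haveI : IsLocallyNoetherian V := LocallyOfFiniteType.isLocallyNoetherian b
  have hf := flat_stalkMap_to_etale h b u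
  have ha : (a.stalkMap u).hom.Flat := Flat.stalkMap a u
  have hg := (GorMor.isGorensteinAt_of_etale a u).2
  refine ⟨fun hx => ⟨hf, ?_⟩, fun hx => ⟨hf, ?_⟩⟩
  · haveI := hg
    exact ((CMFlat.isCohenMacaulay_stalk_iff h u hf).1
      ((CMFlat.isCohenMacaulay_stalk_iff a u ha).2 ⟨hx, Groth.Agent.S0341.result _⟩)).2
  · exact ((GorMor.isGorenstein_stalk_iff h u hf).1 ((GorMor.isGorenstein_stalk_iff a u ha).2 ⟨hx, hg⟩)).2

end Groth.Agent.CurvFieldPt
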